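import Groth.Prelude.Def_CAlgX
import Groth.Prelude.Def_W4stkadequatePure
import Groth.Agent.CAlgUI.Basic
import Mathlib.Algebra.Module.CharacterModule
import Mathlib.LinearAlgebra.DFinsupp
import Mathlib.Algebra.Module.FinitePresentation

/-!
# Pure projective and pure injective modules
-/

open TensorProduct

universe u

namespace Groth.Agent.PureExtAux

variable (R : Type u) [CommRing R]

/-- The lifting property along surjections with universally injective kernel. -/
def IsPureProj (P : Type u) [AddCommGroup P] [Module R P] : Prop :=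
  ∀ ⦃L N : Type u⦄ [AddCommGroup L] [Module R L] [AddCommGroup N] [Module R N] (g : L →ₗ[R] N),
    Function.Surjective g → CAlgX.UniversallyInjective R (LinearMap.ker g).subtype →
    ∀ φ : P →ₗ[R] N, ∃ ψ : P →ₗ[R] L, g ∘ₗ ψ = φ

/-- The extension property along universally injective maps. -/
def IsPureInj (I : Type u) [AddCommGroup I] [Module R I] : Prop :=
  ∀ ⦃K L : Type u⦄ [AddCommGroup K] [Module R K] [AddCommGroup L] [Module R L] (f : K →ₗ[R] L),
    CAlgX.UniversallyInjective R f → ∀ φ : K →ₗ[R] I, ∃ ψ : L →ₗ[R] I, ψ ∘ₗ f = φ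

theorem isPureProj_of_fp (P : Type u) [AddCommGroup P] [Module R P] [Module.FinitePresentation R P] :
    IsPureProj R P := fun _ _ _ _ _ _ g hg hui φ =>
  CAlgUI.exists_lift_of_ui g.exact_subtype_ker_map hg hui φ

theorem isPureProj_dfinsupp {ι : Type u} (Q : ι → Type u) [∀ i, AddCommGroup (Q i)] [∀ i, Module R (Q i)]
    (h : ∀ i, IsPureProj R (Q i)) : IsPureProj R (Π₀ i, Q i) := by
  classical
  intro L N _ _ _ _ g hg hui φ
  choose ψ hψ using fun i => h i g hg hui (φ ∘ₗ DFinsupp.lsingle i)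
  refine ⟨DFinsupp.lsum R ψ, DFinsupp.lhom_ext' fun i => LinearMap.ext fun x => ?_⟩
  simp only [LinearMap.comp_apply, DFinsupp.lsingle_apply, DFinsupp.lsum_single]
  exact LinearMap.congr_fun (hψ i) x

theorem isPureProj_retract {P F : Type u} [AddCommGroup P] [Module R P] [AddCommGroup F] [Module R F]
    (s : P →ₗ[R] F) (r : F →ₗ[R] P) (hrs : r ∘ₗ s = LinearMap.id) (hF : IsPureProj R F) :
    IsPureProj R P := fun _ _ _ _ _ _ g hg hui φ => by
  obtain ⟨ψ, hψ⟩ := hF g hg hui (φ ∘ₗ r)
  exact ⟨ψ ∘ₗ s, by rw [← LinearMap.comp_assoc, hψ, LinearMap.comp_assoc, hrs, LinearMap.comp_id]⟩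

/-- Finitely presented modules with a map to `M`. -/
abbrev CoverIdx (M : Type u) [AddCommGroup M] [Module R M] : Type u :=
  Σ n : ℕ, Σ s : Finset (Fin n → R), (((Fin n → R) ⧸ Submodule.span R (s : Set (Fin n → R))) →ₗ[R] M)

/-- The piece attached to an index. -/
abbrev CoverObj {M : Type u} [AddCommGroup M] [Module R M] (i : CoverIdx R M) : Type u :=
  (Fin i.1 → R) ⧸ Submodule.span R (i.2.1 : Set (Fin i.1 → R))

theorem fp_coverObj {M : Type u} [AddCommGroup M] [Module R M] (i : CoverIdx R M) :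
    Module.FinitePresentation R (CoverObj R i) :=
  Module.finitePresentation_of_surjective _ (Submodule.mkQ_surjective _)
    (by rw [Submodule.ker_mkQ]; exact ⟨i.2.1, rfl⟩)

/-- The universal cover by finitely presented modules. -/
noncomputable def cover (M : Type u) [AddCommGroup M] [Module R M] :
    (Π₀ i : CoverIdx R M, CoverObj R i) →ₗ[R] M :=
  haveI : DecidableEq (CoverIdx R M) := Classical.decEq _
  DFinsupp.lsum R fun i => i.2.2

theorem cover_lift (M : Type u) [AddCommGroup M] [Module R M] (P : Type u) [AddCommGroup P] [Module R P]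
    (hP : Module.FinitePresentation R P) (h : P →ₗ[R] M) :
    ∃ h' : P →ₗ[R] (Π₀ i : CoverIdx R M, CoverObj R i), cover R M ∘ₗ h' = h := by
  classical
  obtain ⟨n, m, p, b, hp, hpb⟩ := Module.FinitePresentation.exists_fin' R P
  obtain ⟨s, hs⟩ : (LinearMap.range b).FG := by
    rw [LinearMap.range_eq_map]; exact Module.Finite.fg_top.map b
  let e : ((Fin n → R) ⧸ Submodule.span R (s : Set (Fin n → R))) ≃ₗ[R] P :=
    (Submodule.quotEquivOfEq _ _ (hs.trans (LinearMap.exact_iff.mp hpb).symm)).trans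
      (p.quotKerEquivOfSurjective hp)
  let i : CoverIdx R M := ⟨n, s, h ∘ₗ e.toLinearMap⟩
  refine ⟨(DFinsupp.lsingle i : CoverObj R i →ₗ[R] _) ∘ₗ e.symm.toLinearMap, LinearMap.ext fun x => ?_⟩
  show DFinsupp.lsum R (fun j : CoverIdx R M => j.2.2) (DFinsupp.single i (e.symm x)) = h x
  rw [DFinsupp.lsum_single]
  exact congrArg h (e.apply_symm_apply x)

theorem cover_surjective (M : Type u) [AddCommGroup M] [Module R M] : Function.Surjective (cover R M) := by
  intro m
  obtain ⟨h', hh'⟩ := cover_lift R M R inferInstance (LinearMap.toSpanSingleton R M m)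
  exact ⟨h' 1, by simpa using LinearMap.congr_fun hh' 1⟩

theorem ui_of_dfinsupp {ι : Type u} {Q : ι → Type u} [∀ i, AddCommGroup (Q i)] [∀ i, Module R (Q i)]
    {M : Type u} [AddCommGroup M] [Module R M] (g : (Π₀ i, Q i) →ₗ[R] M)
    (H : ∀ (P : Type u) [AddCommGroup P] [Module R P], Module.FinitePresentation R P →
      ∀ h : P →ₗ[R] M, ∃ h' : P →ₗ[R] (Π₀ i, Q i), g ∘ₗ h' = h) :
    CAlgX.UniversallyInjective R (LinearMap.ker g).subtype :=
  CAlgUI.ui_of_forall_lift Subtype.val_injective g.exact_subtype_ker_map H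

theorem exists_cover (M : Type u) [AddCommGroup M] [Module R M] :
    ∃ (ι : Type u) (Q : ι → Type u) (_ : ∀ i, AddCommGroup (Q i)) (_ : ∀ i, Module R (Q i)),
      (∀ i, Module.FinitePresentation R (Q i)) ∧
      ∃ g : (Π₀ i, Q i) →ₗ[R] M, Function.Surjective g ∧
        CAlgX.UniversallyInjective R (LinearMap.ker g).subtype :=
  ⟨_, _, _, _, fp_coverObj R, cover R M, cover_surjective R M,
    ui_of_dfinsupp R (cover R M) (cover_lift R M)⟩

theorem isPureProj_iff (P : Type u) [AddCommGroup P] [Module R P] :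
    IsPureProj R P ↔ ∃ (ι : Type u) (Q : ι → Type u) (_ : ∀ i, AddCommGroup (Q i)) (_ : ∀ i, Module R (Q i)),
      (∀ i, Module.FinitePresentation R (Q i)) ∧
      ∃ (s : P →ₗ[R] (Π₀ i, Q i)) (r : (Π₀ i, Q i) →ₗ[R] P), r ∘ₗ s = LinearMap.id := by
  constructor
  · intro h
    obtain ⟨ι, Q, _, _, hQ, g, hg, hui⟩ := exists_cover R P
    obtain ⟨s, hs⟩ := h g hg hui LinearMap.id
    exact ⟨ι, Q, _, _, hQ, s, g, hs⟩
  · rintro ⟨ι, Q, _, _, hQ, s, r, hrs⟩
    exact isPureProj_retract R s r hrs (isPureProj_dfinsupp R Q fun i => haveI := hQ i; isPureProj_of_fp R _)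

theorem isPureInj_characterModule (V : Type u) [AddCommGroup V] [Module R V] :
    IsPureInj R (CharacterModule V) := by
  intro K L _ _ _ _ f hf φ
  obtain ⟨c, hc⟩ := CharacterModule.dual_surjective_of_injective (f.rTensor V) (hf V)
    (CharacterModule.homEquiv φ)
  refine ⟨CharacterModule.homEquiv.symm c, LinearMap.ext fun k => CharacterModule.ext _ fun v => ?_⟩
  exact congrArg (fun d : CharacterModule (K ⊗[R] V) => d (k ⊗ₜ[R] v)) hc

theorem ui_charEval (M : Type u) [AddCommGroup M] [Module R M] :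
    CAlgX.UniversallyInjective R (PureExt.charEval R M) := by
  intro Q _ _
  rw [injective_iff_map_eq_zero]
  intro t ht
  refine CharacterModule.eq_zero_of_character_apply fun χ => ?_
  let g : Q →ₗ[R] CharacterModule M := CharacterModule.curry (CharacterModule.dual
    (TensorProduct.comm R Q M).toLinearMap χ)
  let e : CharacterModule (CharacterModule (M)) ⊗[R] Q →+ AddCircle (1 : ℚ) :=
    TensorProduct.liftAddHom
      { toFun := fun ξ => (ξ : CharacterModule M →+ AddCircle (1 : ℚ)).comp g.toAddMonoidHom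
        map_zero' := by ext; rfl
        map_add' := fun _ _ => by ext; rfl }
      (fun r ξ q => by
        refine (CharacterModule.smul_apply ξ r (g q)).trans ?_
        exact congrArg ξ (map_smul g r q).symm)
  have he : ∀ t, e ((PureExt.charEval R M).rTensor Q t) = χ t := by
    intro t
    induction t with
    | zero => simp
    | add a b ha hb => simp only [map_add, ha, hb]
    | tmul m q => rfl
  rw [← he, ht, map_zero]

theorem ui_range_subtype {L M N : Type u} [AddCommGroup L] [Module R L] [AddCommGroup M] [Module R M]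
    [AddCommGroup N] [Module R N] (f : L →ₗ[R] M) (g : M →ₗ[R] N)
    (h : ∀ (Q : Type u) [AddCommGroup Q] [Module R Q], Function.Exact (f.rTensor Q) (g.rTensor Q)) :
    CAlgX.UniversallyInjective R (LinearMap.range g).subtype := by
  have hgf : g ∘ₗ f = 0 := LinearMap.ext fun x => by
    have h1 : g.rTensor R (f x ⊗ₜ[R] (1 : R)) = 0 := (h R).apply_apply_eq_zero (x ⊗ₜ[R] (1 : R))
    simpa using congrArg (TensorProduct.rid R N) h1
  intro Q _ _
  rw [injective_iff_map_eq_zero]
  intro z hz
  obtain ⟨w, rfl⟩ := LinearMap.rTensor_surjective Q g.surjective_rangeRestrict z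
  rw [← LinearMap.comp_apply, ← LinearMap.rTensor_comp, show (LinearMap.range g).subtype ∘ₗ g.rangeRestrict = g from rfl] at hz
  obtain ⟨v, rfl⟩ := (h Q w).1 hz
  rw [← LinearMap.comp_apply, ← LinearMap.rTensor_comp, show g.rangeRestrict ∘ₗ f = 0 from
    LinearMap.ext fun x => Subtype.ext (LinearMap.congr_fun hgf x), LinearMap.rTensor_zero, LinearMap.zero_apply]

theorem isPureInj_iff (I : Type u) [AddCommGroup I] [Module R I] :
    IsPureInj R I ↔ ∃ r : CharacterModule (CharacterModule I) →ₗ[R] I, r ∘ₗ PureExt.charEval R I = LinearMap.id := by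
  refine ⟨fun h => h _ (ui_charEval R I) LinearMap.id, fun ⟨r, hr⟩ K L _ _ _ _ f hf φ => ?_⟩
  obtain ⟨ψ, hψ⟩ := isPureInj_characterModule R (CharacterModule I) f hf (PureExt.charEval R I ∘ₗ φ)
  exact ⟨r ∘ₗ ψ, by rw [LinearMap.comp_assoc, hψ, ← LinearMap.comp_assoc, hr, LinearMap.id_comp]⟩

end Groth.Agent.PureExtAux
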