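import Groth.Agent.PureExtAux.Base
import Mathlib

/-!
# Pure projective / pure injective resolutions and comparison
-/

open TensorProduct CategoryTheory Limits

universe u

namespace Groth.Agent.PureExtAux

variable {R : Type u} [CommRing R]

section basic
variable {L M N P : Type u} [AddCommGroup L] [Module R L] [AddCommGroup M] [Module R M]
  [AddCommGroup N] [Module R N] [AddCommGroup P] [Module R P]

/-- Exact after tensoring with any module. -/
def UExact (f : L →ₗ[R] M) (g : M →ₗ[R] N) : Prop :=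
  ∀ (Q : Type u) [AddCommGroup Q] [Module R Q], Function.Exact (f.rTensor Q) (g.rTensor Q)

theorem UExact.exact {f : L →ₗ[R] M} {g : M →ₗ[R] N} (h : UExact f g) : Function.Exact f g :=
  (LinearMap.exact_iff_of_surjective_of_bijective_of_injective
    (f.rTensor R) (g.rTensor R) f g (TensorProduct.rid R L).toLinearMap
    (TensorProduct.rid R M).toLinearMap (TensorProduct.rid R N).toLinearMap
    (by ext; simp) (by ext; simp) (TensorProduct.rid R L).surjective
    (TensorProduct.rid R M).bijective (TensorProduct.rid R N).injective).mp (h R)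

theorem surjective_of_rTensor {g : M →ₗ[R] N} (h : Function.Surjective (g.rTensor R)) :
    Function.Surjective g := by
  intro n
  obtain ⟨t, ht⟩ := h (n ⊗ₜ 1)
  refine ⟨TensorProduct.rid R M t, ?_⟩
  have hc : ∀ t, g (TensorProduct.rid R M t) = TensorProduct.rid R N (g.rTensor R t) := by
    intro t
    induction t with
    | zero => simp
    | tmul a b => simp
    | add a b ha hb => simp only [map_add, ha, hb]
  rw [hc, ht]; simp

theorem UExact.ui_ker {f : L →ₗ[R] M} {g : M →ₗ[R] N} {e : P →ₗ[R] L}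
    (h : UExact e f) (h' : UExact f g) :
    CAlgX.UniversallyInjective R (LinearMap.ker g).subtype := by
  rw [LinearMap.exact_iff.mp h'.exact]
  exact ui_range_subtype R e f h

/-- Lifting from a pure projective. -/
theorem exists_plift (hP : IsPureProj R P) {g : L →ₗ[R] M}
    (hg : CAlgX.UniversallyInjective R (LinearMap.ker g).subtype) (φ : P →ₗ[R] M)
    (hφ : ∀ x, φ x ∈ LinearMap.range g) : ∃ ψ : P →ₗ[R] L, g ∘ₗ ψ = φ := by
  have hg' : CAlgX.UniversallyInjective R (LinearMap.ker g.rangeRestrict).subtype := by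
    rw [LinearMap.ker_rangeRestrict]; exact hg
  obtain ⟨ψ, hψ⟩ := hP g.rangeRestrict g.surjective_rangeRestrict hg' (φ.codRestrict _ hφ)
  exact ⟨ψ, LinearMap.ext fun x => congrArg Subtype.val (LinearMap.congr_fun hψ x)⟩

/-- Extension into a pure injective. -/
theorem exists_pext (hP : IsPureInj R P) {g : L →ₗ[R] M}
    (hg : CAlgX.UniversallyInjective R (LinearMap.range g).subtype) (φ : L →ₗ[R] P)
    (hφ : LinearMap.ker g ≤ LinearMap.ker φ) : ∃ ψ : M →ₗ[R] P, ψ ∘ₗ g = φ := by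
  obtain ⟨ψ, hψ⟩ := hP (LinearMap.range g).subtype hg
    ((LinearMap.ker g).liftQ φ hφ ∘ₗ g.quotKerEquivRange.symm.toLinearMap)
  refine ⟨ψ, LinearMap.ext fun x => ?_⟩
  have h1 := LinearMap.congr_fun hψ (g.quotKerEquivRange (Submodule.Quotient.mk x))
  simp only [LinearMap.comp_apply, LinearEquiv.coe_coe, LinearEquiv.symm_apply_apply,
    Submodule.liftQ_apply] at h1
  simpa using h1

end basic

variable {M N : ModuleCat.{u} R}

theorem chain_quasiIso_iff (P : ChainComplex (ModuleCat.{u} R) ℕ)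
    (π : P ⟶ (ChainComplex.single₀ (ModuleCat.{u} R)).obj M) (T : ModuleCat.{u} R) :
    QuasiIso (((MonoidalCategory.tensorRight T).mapHomologicalComplex (ComplexShape.down ℕ)).map π) ↔
      (∀ n, Function.Exact ((P.d (n + 2) (n + 1)).hom.rTensor T) ((P.d (n + 1) n).hom.rTensor T)) ∧
      Function.Exact ((P.d 1 0).hom.rTensor T) ((π.f 0).hom.rTensor T) ∧
      Function.Surjective ((π.f 0).hom.rTensor T) := by
  let F := MonoidalCategory.tensorRight T
  let D := (F.mapHomologicalComplex (ComplexShape.down ℕ)).obj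
    ((ChainComplex.single₀ (ModuleCat.{u} R)).obj M)
  have hD : ∀ n, IsZero (D.X (n + 1)) := fun n =>
    F.map_isZero (HomologicalComplex.isZero_single_obj_X _ _ _ _ (Nat.succ_ne_zero n))
  rw [quasiIso_iff]
  have h1 : ∀ n, QuasiIsoAt ((F.mapHomologicalComplex (ComplexShape.down ℕ)).map π) (n + 1) ↔
      Function.Exact ((P.d (n + 2) (n + 1)).hom.rTensor T) ((P.d (n + 1) n).hom.rTensor T) := by
    intro n
    have hL : D.ExactAt (n + 1) := ShortComplex.exact_of_isZero_X₂ _ (hD n)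
    rw [quasiIsoAt_iff_exactAt' _ _ hL,
      HomologicalComplex.exactAt_iff' _ (n + 2) (n + 1) n (ChainComplex.prev ℕ (n + 1)) (ChainComplex.next_nat_succ n),
      ShortComplex.ShortExact.moduleCat_exact_iff_function_exact]
    rfl
  have h0 : QuasiIsoAt ((F.mapHomologicalComplex (ComplexShape.down ℕ)).map π) 0 ↔
      Function.Exact ((P.d 1 0).hom.rTensor T) ((π.f 0).hom.rTensor T) ∧
      Function.Surjective ((π.f 0).hom.rTensor T) := by
    rw [ChainComplex.quasiIsoAt₀_iff, ShortComplex.quasiIso_iff_of_zeros']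
    · rw [ShortComplex.ShortExact.moduleCat_exact_iff_function_exact, ModuleCat.epi_iff_surjective]
      rfl
    · exact ((F.mapHomologicalComplex (ComplexShape.down ℕ)).obj P).shape 0 0 (Nat.succ_ne_zero 0)
    · exact (hD 0).eq_of_src _ _
    · exact D.shape 0 0 (Nat.succ_ne_zero 0)
  constructor
  · intro h
    exact ⟨fun n => (h1 n).mp (h (n + 1)), h0.mp (h 0)⟩
  · rintro ⟨a, b⟩ (_ | n)
    · exact h0.mpr b
    · exact (h1 n).mpr (a n)

theorem cochain_quasiIso_iff (I : CochainComplex (ModuleCat.{u} R) ℕ)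
    (η : (CochainComplex.single₀ (ModuleCat.{u} R)).obj M ⟶ I) (T : ModuleCat.{u} R) :
    QuasiIso (((MonoidalCategory.tensorRight T).mapHomologicalComplex (ComplexShape.up ℕ)).map η) ↔
      (∀ n, Function.Exact ((I.d n (n + 1)).hom.rTensor T) ((I.d (n + 1) (n + 2)).hom.rTensor T)) ∧
      Function.Exact ((η.f 0).hom.rTensor T) ((I.d 0 1).hom.rTensor T) ∧
      Function.Injective ((η.f 0).hom.rTensor T) := by
  let F := MonoidalCategory.tensorRight T
  let D := (F.mapHomologicalComplex (ComplexShape.up ℕ)).obj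
    ((CochainComplex.single₀ (ModuleCat.{u} R)).obj M)
  have hD : ∀ n, IsZero (D.X (n + 1)) := fun n =>
    F.map_isZero (HomologicalComplex.isZero_single_obj_X _ _ _ _ (Nat.succ_ne_zero n))
  rw [quasiIso_iff]
  have h1 : ∀ n, QuasiIsoAt ((F.mapHomologicalComplex (ComplexShape.up ℕ)).map η) (n + 1) ↔
      Function.Exact ((I.d n (n + 1)).hom.rTensor T) ((I.d (n + 1) (n + 2)).hom.rTensor T) := by
    intro n
    have hL : D.ExactAt (n + 1) := ShortComplex.exact_of_isZero_X₂ _ (hD n)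
    rw [quasiIsoAt_iff_exactAt _ _ hL,
      HomologicalComplex.exactAt_iff' _ n (n + 1) (n + 2) (CochainComplex.prev_nat_succ n) (CochainComplex.next ℕ (n + 1)),
      ShortComplex.ShortExact.moduleCat_exact_iff_function_exact]
    rfl
  have h0 : QuasiIsoAt ((F.mapHomologicalComplex (ComplexShape.up ℕ)).map η) 0 ↔
      Function.Exact ((η.f 0).hom.rTensor T) ((I.d 0 1).hom.rTensor T) ∧
      Function.Injective ((η.f 0).hom.rTensor T) := by
    rw [CochainComplex.quasiIsoAt₀_iff, ShortComplex.quasiIso_iff_of_zeros]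
    · rw [ShortComplex.ShortExact.moduleCat_exact_iff_function_exact, ModuleCat.mono_iff_injective]
      rfl
    · exact D.shape 0 0 (Nat.succ_ne_zero 0)
    · exact (hD 0).eq_of_tgt _ _
    · exact ((F.mapHomologicalComplex (ComplexShape.up ℕ)).obj I).shape 0 0 (Nat.succ_ne_zero 0)
  constructor
  · intro h
    exact ⟨fun n => (h1 n).mp (h (n + 1)), h0.mp (h 0)⟩
  · rintro ⟨a, b⟩ (_ | n)
    · exact h0.mpr b
    · exact (h1 n).mpr (a n)

variable {P : ChainComplex (ModuleCat.{u} R) ℕ}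

section chain
variable {N' : ChainComplex (ModuleCat.{u} R) ℕ}
  {ε : N' ⟶ (ChainComplex.single₀ (ModuleCat.{u} R)).obj N}
  (hN' : ∀ T : ModuleCat.{u} R,
    QuasiIso (((MonoidalCategory.tensorRight T).mapHomologicalComplex (ComplexShape.down ℕ)).map ε))
include hN'

theorem chain_uexact (n : ℕ) : UExact (N'.d (n + 2) (n + 1)).hom (N'.d (n + 1) n).hom :=
  fun Q _ _ => ((chain_quasiIso_iff N' ε (ModuleCat.of R Q)).mp (hN' _)).1 n

theorem chain_uexact_aug : UExact (N'.d 1 0).hom (ε.f 0).hom :=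
  fun Q _ _ => ((chain_quasiIso_iff N' ε (ModuleCat.of R Q)).mp (hN' _)).2.1

theorem chain_aug_surjective : Function.Surjective (ε.f 0).hom :=
  surjective_of_rTensor ((chain_quasiIso_iff N' ε (ModuleCat.of R R)).mp (hN' _)).2.2

/-- Lift a map killed by the differential one step up. -/
theorem chain_lift (P : ModuleCat.{u} R) (hP : IsPureProj R P) (n : ℕ) (φ : P ⟶ N'.X (n + 1))
    (h : φ ≫ N'.d (n + 1) n = 0) : ∃ ψ : P ⟶ N'.X (n + 2), ψ ≫ N'.d (n + 2) (n + 1) = φ := by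
  obtain ⟨ψ, hψ⟩ := exists_plift hP (g := (N'.d (n + 2) (n + 1)).hom)
    ((chain_uexact hN' (n + 2)).ui_ker (chain_uexact hN' (n + 1))) φ.hom
    fun x => ((chain_uexact hN' n).exact (φ.hom x)).mp
      (LinearMap.congr_fun (congrArg ModuleCat.Hom.hom h) x)
  exact ⟨ModuleCat.ofHom ψ, ModuleCat.hom_ext hψ⟩

theorem chain_lift_zero (P : ModuleCat.{u} R) (hP : IsPureProj R P) (φ : P ⟶ N'.X 0)
    (h : φ ≫ ε.f 0 = 0) : ∃ ψ : P ⟶ N'.X 1, ψ ≫ N'.d 1 0 = φ := by
  obtain ⟨ψ, hψ⟩ := exists_plift hP (g := (N'.d 1 0).hom)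
    ((chain_uexact hN' 1).ui_ker (chain_uexact hN' 0)) φ.hom
    fun x => ((chain_uexact_aug hN').exact (φ.hom x)).mp
      (LinearMap.congr_fun (congrArg ModuleCat.Hom.hom h) x)
  exact ⟨ModuleCat.ofHom ψ, ModuleCat.hom_ext hψ⟩

theorem chain_lift_aug (P : ModuleCat.{u} R) (hP : IsPureProj R P) (φ : P ⟶ N) :
    ∃ ψ : P ⟶ N'.X 0, ψ ≫ ε.f 0 = φ := by
  obtain ⟨ψ, hψ⟩ := exists_plift hP
    (g := (ε.f 0).hom) ((chain_uexact hN' 0).ui_ker (chain_uexact_aug hN')) φ.hom
    fun x => chain_aug_surjective hN' _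
  exact ⟨ModuleCat.ofHom ψ, ModuleCat.hom_ext hψ⟩

theorem exists_chainMap (hP : ∀ n, IsPureProj R (P.X n)) (f : M ⟶ N)
    (π : P ⟶ (ChainComplex.single₀ (ModuleCat.{u} R)).obj M) :
    ∃ φ : P ⟶ N', φ ≫ ε = π ≫ (ChainComplex.single₀ (ModuleCat.{u} R)).map f := by
  let π0 : P.X 0 ⟶ M := π.f 0
  obtain ⟨φ0, h0⟩ := chain_lift_aug hN' (P.X 0) (hP 0) (π0 ≫ f)
  have hπ : P.d 1 0 ≫ π0 = 0 := ((ChainComplex.toSingle₀Equiv P M) π).2
  obtain ⟨φ1, h1⟩ := chain_lift_zero hN' (P.X 1) (hP 1) (P.d 1 0 ≫ φ0) (by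
    exact (Category.assoc _ _ _).trans (((congrArg (P.d 1 0 ≫ ·) h0).trans (Category.assoc _ _ _).symm).trans (by rw [hπ, zero_comp])))
  have hs : ∀ (n : ℕ) (p : Σ' (a : P.X n ⟶ N'.X n) (b : P.X (n + 1) ⟶ N'.X (n + 1)),
      b ≫ N'.d (n + 1) n = P.d (n + 1) n ≫ a),
      ∃ c : P.X (n + 2) ⟶ N'.X (n + 2), c ≫ N'.d (n + 2) (n + 1) = P.d (n + 2) (n + 1) ≫ p.2.1 :=
    fun n p => chain_lift hN' _ (hP _) n _ (by
      rw [Category.assoc, p.2.2, HomologicalComplex.d_comp_d_assoc, zero_comp])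
  choose c hc using hs
  refine ⟨ChainComplex.mkHom P N' φ0 φ1 h1 (fun n p => ⟨c n p, hc n p⟩),
    HomologicalComplex.to_single_hom_ext ?_⟩
  rw [HomologicalComplex.comp_f, HomologicalComplex.comp_f, ChainComplex.mkHom_f_0]
  simpa using h0

theorem exists_homotopy_zero (hP : ∀ n, IsPureProj R (P.X n)) (γ : P ⟶ N') (hγ : γ ≫ ε = 0) :
    Nonempty (Homotopy γ 0) := by
  obtain ⟨z, hz⟩ := chain_lift_zero hN' (P.X 0) (hP 0) (γ.f 0)
    (by rw [← HomologicalComplex.comp_f, hγ, HomologicalComplex.zero_f])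
  obtain ⟨o, ho⟩ := chain_lift hN' (P.X 1) (hP 1) 0 (γ.f 1 - P.d 1 0 ≫ z)
    (by rw [Preadditive.sub_comp, Category.assoc, hz, γ.comm, sub_self])
  have hs : ∀ (n : ℕ) (p : Σ' (a : P.X n ⟶ N'.X (n + 1)) (b : P.X (n + 1) ⟶ N'.X (n + 2)),
      γ.f (n + 1) = P.d (n + 1) n ≫ a + b ≫ N'.d (n + 2) (n + 1)),
      ∃ c : P.X (n + 2) ⟶ N'.X (n + 3),
        c ≫ N'.d (n + 3) (n + 2) = γ.f (n + 2) - P.d (n + 2) (n + 1) ≫ p.2.1 :=
    fun n ⟨a, b, hab⟩ => chain_lift hN' _ (hP _) (n + 1) _ (by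
      dsimp only
      rw [Preadditive.sub_comp, Category.assoc, γ.comm, hab, Preadditive.comp_add,
        HomologicalComplex.d_comp_d_assoc, zero_comp, zero_add, sub_self])
  choose c hc using hs
  exact ⟨Homotopy.mkInductive γ z hz.symm o (by rw [ho, add_sub_cancel])
    (fun n p => ⟨c n p, by rw [hc, add_sub_cancel]⟩)⟩

end chain

section cochain
variable {M' I : CochainComplex (ModuleCat.{u} R) ℕ}
  {η : (CochainComplex.single₀ (ModuleCat.{u} R)).obj M ⟶ M'}
  (hM' : ∀ T : ModuleCat.{u} R,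
    QuasiIso (((MonoidalCategory.tensorRight T).mapHomologicalComplex (ComplexShape.up ℕ)).map η))
include hM'

theorem cochain_uexact (n : ℕ) : UExact (M'.d n (n + 1)).hom (M'.d (n + 1) (n + 2)).hom :=
  fun Q _ _ => ((cochain_quasiIso_iff M' η (ModuleCat.of R Q)).mp (hM' _)).1 n

theorem cochain_uexact_aug : UExact (η.f 0).hom (M'.d 0 1).hom :=
  fun Q _ _ => ((cochain_quasiIso_iff M' η (ModuleCat.of R Q)).mp (hM' _)).2.1

theorem cochain_aug_ui : CAlgX.UniversallyInjective R (η.f 0).hom :=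
  fun Q _ _ => ((cochain_quasiIso_iff M' η (ModuleCat.of R Q)).mp (hM' _)).2.2

theorem cochain_ext (P : ModuleCat.{u} R) (hP : IsPureInj R P) (n : ℕ) (φ : M'.X (n + 1) ⟶ P)
    (h : M'.d n (n + 1) ≫ φ = 0) : ∃ ψ : M'.X (n + 2) ⟶ P, M'.d (n + 1) (n + 2) ≫ ψ = φ := by
  obtain ⟨ψ, hψ⟩ := exists_pext hP (g := (M'.d (n + 1) (n + 2)).hom)
    (ui_range_subtype R _ _ (cochain_uexact hM' n)) φ.hom (by
      intro x hx
      obtain ⟨y, rfl⟩ := ((cochain_uexact hM' n).exact x).mp hx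
      exact LinearMap.congr_fun (congrArg ModuleCat.Hom.hom h) y)
  exact ⟨ModuleCat.ofHom ψ, ModuleCat.hom_ext hψ⟩

theorem cochain_ext_zero (P : ModuleCat.{u} R) (hP : IsPureInj R P) (φ : M'.X 0 ⟶ P)
    (h : η.f 0 ≫ φ = 0) : ∃ ψ : M'.X 1 ⟶ P, M'.d 0 1 ≫ ψ = φ := by
  obtain ⟨ψ, hψ⟩ := exists_pext hP (g := (M'.d 0 1).hom)
    (ui_range_subtype R _ _ (cochain_uexact_aug hM')) φ.hom (by
      intro x hx
      obtain ⟨y, rfl⟩ := ((cochain_uexact_aug hM').exact x).mp hx
      exact LinearMap.congr_fun (congrArg ModuleCat.Hom.hom h) y)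
  exact ⟨ModuleCat.ofHom ψ, ModuleCat.hom_ext hψ⟩

theorem exists_cochainMap (hI : ∀ n, IsPureInj R (I.X n)) (f : M ⟶ N)
    (ε : (CochainComplex.single₀ (ModuleCat.{u} R)).obj N ⟶ I) :
    ∃ φ : M' ⟶ I, η ≫ φ = (CochainComplex.single₀ (ModuleCat.{u} R)).map f ≫ ε := by
  let ε0 : N ⟶ I.X 0 := ε.f 0
  obtain ⟨ψ, hψ⟩ := hI 0 _ (cochain_aug_ui hM') (f ≫ ε0).hom
  let φ0 : M'.X 0 ⟶ I.X 0 := ModuleCat.ofHom ψ
  have h0 : η.f 0 ≫ φ0 = f ≫ ε0 := ModuleCat.hom_ext hψ
  have hε : ε0 ≫ I.d 0 1 = 0 := ((CochainComplex.fromSingle₀Equiv I N) ε).2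
  obtain ⟨φ1, h1⟩ := cochain_ext_zero hM' (I.X 1) (hI 1) (φ0 ≫ I.d 0 1) (by
    exact (Category.assoc _ _ _).symm.trans (((congrArg (· ≫ I.d 0 1) h0).trans (Category.assoc _ _ _)).trans (by rw [hε, comp_zero])))
  have hs : ∀ (n : ℕ) (p : Σ' (a : M'.X n ⟶ I.X n) (b : M'.X (n + 1) ⟶ I.X (n + 1)),
      a ≫ I.d n (n + 1) = M'.d n (n + 1) ≫ b),
      ∃ c : M'.X (n + 2) ⟶ I.X (n + 2), M'.d (n + 1) (n + 2) ≫ c = p.2.1 ≫ I.d (n + 1) (n + 2) :=
    fun n p => cochain_ext hM' _ (hI _) n _ (by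
      rw [← Category.assoc, ← p.2.2, Category.assoc, HomologicalComplex.d_comp_d, comp_zero])
  choose c hc using hs
  refine ⟨CochainComplex.mkHom M' I φ0 φ1 h1.symm (fun n p => ⟨c n p, (hc n p).symm⟩),
    HomologicalComplex.from_single_hom_ext ?_⟩
  rw [HomologicalComplex.comp_f, HomologicalComplex.comp_f, CochainComplex.mkHom_f_0]
  simpa using h0

theorem exists_homotopy_zero' (hI : ∀ n, IsPureInj R (I.X n)) (γ : M' ⟶ I) (hγ : η ≫ γ = 0) :
    Nonempty (Homotopy γ 0) := by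
  obtain ⟨z, hz⟩ := cochain_ext_zero hM' (I.X 0) (hI 0) (γ.f 0)
    (by rw [← HomologicalComplex.comp_f, hγ, HomologicalComplex.zero_f])
  obtain ⟨o, ho⟩ := cochain_ext hM' (I.X 1) (hI 1) 0 (γ.f 1 - z ≫ I.d 0 1)
    (by rw [Preadditive.comp_sub, reassoc_of% hz, ← γ.comm, sub_self])
  have hs : ∀ (n : ℕ) (p : Σ' (a : M'.X (n + 1) ⟶ I.X n) (b : M'.X (n + 2) ⟶ I.X (n + 1)),
      γ.f (n + 1) = a ≫ I.d n (n + 1) + M'.d (n + 1) (n + 2) ≫ b),
      ∃ c : M'.X (n + 3) ⟶ I.X (n + 2),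
        M'.d (n + 2) (n + 3) ≫ c = γ.f (n + 2) - p.2.1 ≫ I.d (n + 1) (n + 2) :=
    fun n ⟨a, b, hab⟩ => cochain_ext hM' _ (hI _) (n + 1) _ (by
      dsimp only
      rw [Preadditive.comp_sub, ← γ.comm, hab, Preadditive.add_comp, Category.assoc,
        HomologicalComplex.d_comp_d, comp_zero, zero_add, Category.assoc, sub_self])
  choose c hc using hs
  exact ⟨Homotopy.mkCoinductive γ z hz.symm o (by rw [ho, add_sub_cancel])
    (fun n p => ⟨c n p, by rw [hc, add_sub_cancel]⟩)⟩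

end cochain

section existence

theorem exact_comp_of {A A' B C C' : Type u} [AddCommGroup A] [Module R A] [AddCommGroup A']
    [Module R A'] [AddCommGroup B] [Module R B] [AddCommGroup C] [Module R C] [AddCommGroup C']
    [Module R C'] {f : A →ₗ[R] B} {g : B →ₗ[R] C} {p : A' →ₗ[R] A} {j : C →ₗ[R] C'}
    (hp : Function.Surjective p) (hj : Function.Injective j) (h : Function.Exact f g) :
    Function.Exact (f ∘ₗ p) (j ∘ₗ g) := by
  intro y
  simp only [LinearMap.comp_apply, LinearMap.coe_comp, hp.range_comp, map_eq_zero_iff j hj]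
  exact h y


/-- The pure projective cover as an object. -/
noncomputable def coverMod (A : ModuleCat.{u} R) : ModuleCat.{u} R :=
  @ModuleCat.of R _ (Π₀ i : CoverIdx R A, CoverObj R i) _ _

/-- The cover map. -/
noncomputable def coverHom (A : ModuleCat.{u} R) : coverMod A ⟶ A :=
  ModuleCat.ofHom (cover R A)

/-- Iterated kernels of covers. -/
noncomputable def projK (M : ModuleCat.{u} R) : ℕ → ModuleCat.{u} R
  | 0 => M
  | n + 1 => ModuleCat.of R (LinearMap.ker (coverHom (projK M n)).hom)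

/-- The double character module. -/
noncomputable def charMod (A : ModuleCat.{u} R) : ModuleCat.{u} R :=
  ModuleCat.of R (CharacterModule (CharacterModule A))

/-- The evaluation. -/
noncomputable def charHom (A : ModuleCat.{u} R) : A ⟶ charMod A :=
  ModuleCat.ofHom (PureExt.charEval R A)

/-- Iterated cokernels of evaluations. -/
noncomputable def injC (M : ModuleCat.{u} R) : ℕ → ModuleCat.{u} R
  | 0 => M
  | n + 1 => ModuleCat.of R (charMod (injC M n) ⧸ LinearMap.range (charHom (injC M n)).hom)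

theorem exists_projRes (M : ModuleCat.{u} R) :
    ∃ (P : ChainComplex (ModuleCat.{u} R) ℕ) (π : P ⟶ (ChainComplex.single₀ (ModuleCat.{u} R)).obj M),
      (∀ n : ℕ, ∃ (ι : Type u) (Q : ι → Type u) (_ : ∀ i, AddCommGroup (Q i)) (_ : ∀ i, Module R (Q i)),
        (∀ i, Module.FinitePresentation R (Q i)) ∧
        ∃ (s : P.X n →ₗ[R] (Π₀ i, Q i)) (r : (Π₀ i, Q i) →ₗ[R] P.X n), r ∘ₗ s = LinearMap.id) ∧
      ∀ T : ModuleCat.{u} R,
        QuasiIso (((MonoidalCategory.tensorRight T).mapHomologicalComplex (ComplexShape.down ℕ)).map π) := by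
  let K := projK M
  let g : ∀ n, coverMod (K n) →ₗ[R] K n := fun n => (coverHom (K n)).hom
  let j : ∀ n, K (n + 1) →ₗ[R] coverMod (K n) := fun n => (LinearMap.ker (g n)).subtype
  have hj : ∀ n, CAlgX.UniversallyInjective R (j n) := fun n =>
    ui_of_dfinsupp R (cover R (K n)) (cover_lift R (K n))
  have hg : ∀ n, Function.Surjective (g n) := fun n => cover_surjective R (K n)
  have hex : ∀ n, Function.Exact (j n) (g n) := fun n => (g n).exact_subtype_ker_map
  let X : ℕ → ModuleCat.{u} R := fun n => coverMod (K n)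
  let d : ∀ n, X (n + 1) ⟶ X n := fun n => ModuleCat.ofHom (j n ∘ₗ g (n + 1))
  have hsq : ∀ n, d (n + 1) ≫ d n = 0 := fun n => ModuleCat.hom_ext (LinearMap.ext fun x =>
    show j n (g (n + 1) (j (n + 1) (g (n + 2) x))) = 0 by
      rw [(hex (n + 1)).apply_apply_eq_zero, map_zero])
  let P := ChainComplex.of X d hsq
  have hd : ∀ n, P.d (n + 1) n = d n := fun n => ChainComplex.of_d X d n
  have hπ : P.d 1 0 ≫ ModuleCat.ofHom (g 0) = 0 := by
    rw [hd]
    exact ModuleCat.hom_ext (LinearMap.ext fun x => (hex 0).apply_apply_eq_zero (g 1 x))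
  refine ⟨P, (ChainComplex.toSingle₀Equiv P M).symm ⟨ModuleCat.ofHom (g 0), hπ⟩,
    fun n => ⟨_, _, _, _, fp_coverObj R, LinearMap.id, LinearMap.id, LinearMap.id_comp _⟩, fun T => ?_⟩
  rw [chain_quasiIso_iff]
  have hcomp : ∀ n, (P.d (n + 1) n).hom.rTensor T = (j n).rTensor T ∘ₗ (g (n + 1)).rTensor T := by
    intro n
    rw [hd, ← LinearMap.rTensor_comp]
    rfl
  have hexT : ∀ n, Function.Exact ((j n).rTensor T) ((g n).rTensor T) := fun n =>
    rTensor_exact T (hex n) (hg n)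
  have hsT : ∀ n, Function.Surjective ((g n).rTensor T) := fun n => LinearMap.rTensor_surjective T (hg n)
  refine ⟨fun n => ?_, ?_, ?_⟩
  · rw [hcomp, hcomp]
    exact exact_comp_of (hsT (n + 2)) (hj n T) (hexT (n + 1))
  · rw [hcomp, ChainComplex.toSingle₀Equiv_symm_apply_f_zero]
    exact exact_comp_of (j := LinearMap.id) (hsT 1) Function.injective_id (hexT 0)
  · rw [ChainComplex.toSingle₀Equiv_symm_apply_f_zero]
    exact hsT 0

theorem exists_injRes (M : ModuleCat.{u} R) :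
    ∃ (I : CochainComplex (ModuleCat.{u} R) ℕ) (η : (CochainComplex.single₀ (ModuleCat.{u} R)).obj M ⟶ I),
      (∀ n, IsPureInj R (I.X n)) ∧
      ∀ T : ModuleCat.{u} R,
        QuasiIso (((MonoidalCategory.tensorRight T).mapHomologicalComplex (ComplexShape.up ℕ)).map η) := by
  let C := injC M
  let e : ∀ n, C n →ₗ[R] charMod (C n) := fun n => (charHom (C n)).hom
  let q : ∀ n, charMod (C n) →ₗ[R] C (n + 1) := fun n => (LinearMap.range (e n)).mkQ
  have hex : ∀ n, Function.Exact (e n) (q n) := fun n => (e n).exact_map_mkQ_range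
  have hq : ∀ n, Function.Surjective (q n) := fun n => Submodule.mkQ_surjective _
  have he : ∀ n, CAlgX.UniversallyInjective R (e n) := fun n => ui_charEval R (C n)
  let X : ℕ → ModuleCat.{u} R := fun n => charMod (C n)
  let d : ∀ n, X n ⟶ X (n + 1) := fun n => ModuleCat.ofHom (e (n + 1) ∘ₗ q n)
  have hsq : ∀ n, d n ≫ d (n + 1) = 0 := fun n => ModuleCat.hom_ext (LinearMap.ext fun x =>
    show e (n + 2) (q (n + 1) (e (n + 1) (q n x))) = 0 by
      rw [(hex (n + 1)).apply_apply_eq_zero, map_zero])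
  let I := CochainComplex.of X d hsq
  have hd : ∀ n, I.d n (n + 1) = d n := fun n => CochainComplex.of_d X d n
  have hη : ModuleCat.ofHom (e 0) ≫ I.d 0 1 = 0 := by
    rw [hd]
    exact ModuleCat.hom_ext (LinearMap.ext fun x =>
      show e 1 (q 0 (e 0 x)) = 0 by rw [(hex 0).apply_apply_eq_zero, map_zero])
  refine ⟨I, (CochainComplex.fromSingle₀Equiv I M).symm ⟨ModuleCat.ofHom (e 0), hη⟩,
    fun n => isPureInj_characterModule R _, fun T => ?_⟩
  rw [cochain_quasiIso_iff]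
  have hcomp : ∀ n, (I.d n (n + 1)).hom.rTensor T = (e (n + 1)).rTensor T ∘ₗ (q n).rTensor T := by
    intro n
    rw [hd, ← LinearMap.rTensor_comp]
    rfl
  have hexT : ∀ n, Function.Exact ((e n).rTensor T) ((q n).rTensor T) := fun n =>
    rTensor_exact T (hex n) (hq n)
  have hsT : ∀ n, Function.Surjective ((q n).rTensor T) := fun n => LinearMap.rTensor_surjective T (hq n)
  refine ⟨fun n => ?_, ?_, ?_⟩
  · rw [hcomp, hcomp]
    exact exact_comp_of (hsT n) (he (n + 2) T) (hexT (n + 1))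
  · rw [hcomp, CochainComplex.fromSingle₀Equiv_symm_apply_f_zero]
    exact exact_comp_of (p := LinearMap.id) Function.surjective_id (he 1 T) (hexT 0)
  · rw [CochainComplex.fromSingle₀Equiv_symm_apply_f_zero]
    exact he 0 T

end existence

end Groth.Agent.PureExtAux
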